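import Mathlib.Algebra.Polynomial.Derivative
import Mathlib.Algebra.Polynomial.BigOperators
import Mathlib.LinearAlgebra.Vandermonde
import Mathlib.RingTheory.Polynomial.Pochhammer
import Mathlib.LinearAlgebra.Matrix.Determinant.Basic

/-! # Wronskians of polynomials -/

set_option autoImplicit false

namespace Groth.Agent.Lib.Helper18.Wronsk

open Polynomial Matrix

variable {k : Type*} [Field k]

/-- The Wronskian matrix `(g_i^{(j)})`. -/
noncomputable def wmat {n : ℕ} (g : Fin n → k[X]) : Matrix (Fin n) (Fin n) k[X] :=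
  Matrix.of fun i j => derivative^[(j : ℕ)] (g i)

/-- The Wronskian determinant. -/
noncomputable def wr {n : ℕ} (g : Fin n → k[X]) : k[X] := (wmat g).det

theorem wmat_apply {n : ℕ} (g : Fin n → k[X]) (i j : Fin n) :
    wmat g i j = derivative^[(j : ℕ)] (g i) := rfl

/-- Change of family by a constant matrix. -/
theorem wr_linear_comb {n : ℕ} (g g' : Fin n → k[X]) (A : Matrix (Fin n) (Fin n) k)
    (h : ∀ i, g' i = ∑ l, C (A i l) * g l) : wr g' = C A.det * wr g := by
  have hmat : wmat g' = (A.map C) * wmat g := by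
    refine Matrix.ext fun i j => ?_
    rw [Matrix.mul_apply]
    show derivative^[(j : ℕ)] (g' i) = ∑ l, (A.map C) i l * derivative^[(j : ℕ)] (g l)
    rw [h i, iterate_derivative_sum (j : ℕ) Finset.univ (fun l => C (A i l) * g l)]
    refine Finset.sum_congr rfl fun l _ => ?_
    rw [iterate_derivative_C_mul, Matrix.map_apply]
  unfold wr
  rw [hmat, Matrix.det_mul]
  congr 1
  exact (RingHom.map_det C A).symm

/-- Divisibility of the Wronskian by a power of `X - a`. -/
theorem pow_dvd_wr {n : ℕ} (g : Fin n → k[X]) (a : k) (m : Fin n → ℕ)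
    (h : ∀ i, (X - C a) ^ (m i) ∣ g i) :
    (X - C a) ^ (∑ i, m i - ∑ i : Fin n, (i : ℕ)) ∣ wr g := by
  unfold wr
  rw [Matrix.det_apply]
  refine Finset.dvd_sum fun σ _ => ?_
  rw [Units.smul_def, zsmul_eq_mul]
  refine Dvd.dvd.mul_left ?_ _
  -- each term
  have h1 : ∀ i : Fin n, (X - C a) ^ (m (σ i) - (i : ℕ)) ∣ wmat g (σ i) i := fun i =>
    pow_sub_dvd_iterate_derivative_of_pow_dvd _ (h (σ i))
  have h2 : ∏ i : Fin n, (X - C a) ^ (m (σ i) - (i : ℕ)) ∣ ∏ i, wmat g (σ i) i :=
    Finset.prod_dvd_prod_of_dvd _ _ fun i _ => h1 i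
  refine dvd_trans ?_ h2
  rw [Finset.prod_pow_eq_pow_sum]
  apply pow_dvd_pow
  have h3 : ∑ i, m i = ∑ i, m (σ i) := (Equiv.sum_comp σ m).symm
  rw [h3, tsub_le_iff_right, ← Finset.sum_add_distrib]
  exact Finset.sum_le_sum fun i _ => by omega

theorem coeff_prod_of_natDegree_le' {ι : Type*} (s : Finset ι) (f : ι → k[X]) (b : ι → ℕ)
    (h : ∀ i ∈ s, natDegree (f i) ≤ b i) :
    natDegree (∏ i ∈ s, f i) ≤ ∑ i ∈ s, b i ∧
      coeff (∏ i ∈ s, f i) (∑ i ∈ s, b i) = ∏ i ∈ s, coeff (f i) (b i) := by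
  classical
  induction s using Finset.induction_on with
  | empty => simp
  | insert a s ha ih =>
    obtain ⟨ih1, ih2⟩ := ih fun i hi => h i (Finset.mem_insert_of_mem hi)
    have ha' := h a (Finset.mem_insert_self a s)
    rw [Finset.prod_insert ha, Finset.sum_insert ha, Finset.prod_insert ha]
    exact ⟨natDegree_mul_le_of_le ha' ih1, by
      rw [coeff_mul_add_eq_of_natDegree_le ha' ih1, ih2]⟩

theorem natDegree_iterate_derivative_le (p : k[X]) (j e : ℕ) (h : natDegree p ≤ e) :
    natDegree (derivative^[j] p) ≤ e - j :=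
  (natDegree_iterate_derivative p j).trans (Nat.sub_le_sub_right h j)

/-- Degree bound and top coefficient of the Wronskian. -/
theorem coeff_wr {n : ℕ} (g : Fin n → k[X]) (e : Fin n → ℕ) (h : ∀ i, natDegree (g i) ≤ e i) :
    natDegree (wr g) ≤ ∑ i, e i - ∑ i : Fin n, (i : ℕ) ∧
      coeff (wr g) (∑ i, e i - ∑ i : Fin n, (i : ℕ)) =
        (∏ i, coeff (g i) (e i)) *
          (Matrix.of fun i j : Fin n => (((e i).descFactorial (j : ℕ) : ℕ) : k)).det := by
  -- each term of the Leibniz expansion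
  have hterm : ∀ σ : Equiv.Perm (Fin n),
      natDegree (∏ i, wmat g (σ i) i) ≤ ∑ i, e i - ∑ i : Fin n, (i : ℕ) ∧
      coeff (∏ i, wmat g (σ i) i) (∑ i, e i - ∑ i : Fin n, (i : ℕ)) =
        ∏ i, (((e (σ i)).descFactorial (i : ℕ) : ℕ) : k) * coeff (g (σ i)) (e (σ i)) := by
    intro σ
    by_cases hall : ∀ i : Fin n, (i : ℕ) ≤ e (σ i)
    · have hb : ∀ i ∈ (Finset.univ : Finset (Fin n)),
          natDegree (wmat g (σ i) i) ≤ e (σ i) - (i : ℕ) := fun i _ =>
        natDegree_iterate_derivative_le _ _ _ (h (σ i))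
      obtain ⟨h1, h2⟩ := coeff_prod_of_natDegree_le' Finset.univ (fun i => wmat g (σ i) i)
        (fun i => e (σ i) - (i : ℕ)) hb
      have hsum : ∑ i : Fin n, (e (σ i) - (i : ℕ)) = ∑ i, e i - ∑ i : Fin n, (i : ℕ) := by
        rw [Finset.sum_tsub_distrib _ (fun i _ => hall i), Equiv.sum_comp σ e]
      rw [hsum] at h1 h2
      refine ⟨h1, ?_⟩
      rw [h2]
      refine Finset.prod_congr rfl fun i _ => ?_
      rw [wmat_apply, coeff_iterate_derivative, Nat.sub_add_cancel (hall i), nsmul_eq_mul]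
    · push Not at hall
      obtain ⟨i₀, hi₀⟩ := hall
      have hz : wmat g (σ i₀) i₀ = 0 := by
        rw [wmat_apply]
        exact iterate_derivative_eq_zero ((h (σ i₀)).trans_lt hi₀)
      have hprod : ∏ i, wmat g (σ i) i = 0 := Finset.prod_eq_zero (Finset.mem_univ i₀) hz
      rw [hprod]
      refine ⟨by simp, ?_⟩
      rw [coeff_zero]
      symm
      apply Finset.prod_eq_zero (Finset.mem_univ i₀)
      rw [Nat.descFactorial_of_lt hi₀]
      simp
  unfold wr
  rw [Matrix.det_apply]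
  constructor
  · refine natDegree_sum_le_of_forall_le _ _ fun σ _ => ?_
    refine (natDegree_smul_le _ _).trans (hterm σ).1
  · rw [finset_sum_coeff, Matrix.det_apply, Finset.mul_sum]
    refine Finset.sum_congr rfl fun σ _ => ?_
    rw [coeff_smul, (hterm σ).2, Finset.prod_mul_distrib]
    have hperm : ∏ i, coeff (g (σ i)) (e (σ i)) = ∏ i, coeff (g i) (e i) :=
      Equiv.prod_comp σ fun i => coeff (g i) (e i)
    rw [hperm]
    simp only [Matrix.of_apply]
    rw [mul_smul_comm, mul_comm]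

/-- The descending-factorial matrix has the Vandermonde determinant. -/
theorem det_descFactorial {n : ℕ} (e : Fin n → ℕ) :
    (Matrix.of fun i j : Fin n => (((e i).descFactorial (j : ℕ) : ℕ) : k)).det =
      (Matrix.vandermonde fun i => ((e i : ℕ) : k)).det := by
  rw [Matrix.det_eval_matrixOfPolynomials_eq_det_vandermonde (fun i => ((e i : ℕ) : k))
    (fun j : Fin n => descPochhammer k (j : ℕ)) (fun i => descPochhammer_natDegree k i)
    (fun i => monic_descPochhammer k i)]
  congr 1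
  ext i j
  simp only [Matrix.of_apply]
  rw [descPochhammer_eval_eq_descFactorial]

/-- In characteristic zero, polynomials with distinct degrees have nonzero Wronskian, of degree
`∑ eᵢ - n(n-1)/2`. -/
theorem wr_ne_zero_of_natDegree_injective [CharZero k] {n : ℕ} (g : Fin n → k[X])
    (hg : ∀ i, g i ≠ 0) (hinj : Function.Injective fun i => natDegree (g i)) :
    wr g ≠ 0 ∧ natDegree (wr g) ≤ ∑ i, natDegree (g i) - ∑ i : Fin n, (i : ℕ) := by
  obtain ⟨h1, h2⟩ := coeff_wr g (fun i => natDegree (g i)) (fun i => le_rfl)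
  refine ⟨?_, h1⟩
  intro h0
  rw [h0, coeff_zero, det_descFactorial] at h2
  have h3 : (∏ i, coeff (g i) (natDegree (g i))) ≠ 0 :=
    Finset.prod_ne_zero_iff.mpr fun i _ => by
      rw [coeff_natDegree]; exact leadingCoeff_ne_zero.mpr (hg i)
  have h4 : (Matrix.vandermonde fun i => ((natDegree (g i) : ℕ) : k)).det ≠ 0 := by
    rw [Matrix.det_vandermonde_ne_zero_iff]
    exact Nat.cast_injective.comp hinj
  exact mul_ne_zero h3 h4 h2.symm

end Groth.Agent.Lib.Helper18.Wronsk
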